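import Mathlib.LinearAlgebra.Alternating.DomCoprod
import Mathlib.LinearAlgebra.ExteriorPower.Basis
import Mathlib.LinearAlgebra.Determinant
import Mathlib.LinearAlgebra.Multilinear.Curry
import Mathlib.LinearAlgebra.Matrix.NonsingularInverse
import Mathlib.LinearAlgebra.Matrix.Rank
import Mathlib.LinearAlgebra.FiniteDimensional.Lemmas
import Mathlib.RingTheory.LocalRing.ResidueField.Basic

/-! The top exterior power of a complement of a split free submodule of a free module is free. -/

open TensorProduct

universe u v w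

namespace Groth.Agent.DetSplit7

section

variable {B : Type u} [CommRing B] {a : Type} [Fintype a] [DecidableEq a] {m : ℕ}
variable {Ω : Type v} [AddCommGroup Ω] [Module B Ω]
variable (e : a → (a ⊕ Fin m → B)) (π : (a ⊕ Fin m → B) →ₗ[B] Ω) (s : Ω →ₗ[B] (a ⊕ Fin m → B))
  (ρ : (a ⊕ Fin m → B) →ₗ[B] (a → B))

/-- ω ↦ det(e, s ω). -/
noncomputable def detForm : Ω [⋀^Fin m]→ₗ[B] B :=
  { ((Matrix.detRowAlternating : (a ⊕ Fin m → B) [⋀^(a ⊕ Fin m)]→ₗ[B] B).toMultilinearMap.currySum
      e).compLinearMap (fun _ => s) with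
    map_eq_zero_of_eq' := by
      intro v i j hv hij
      show Matrix.detRowAlternating (Sum.elim e (fun j => s (v j))) = 0
      exact AlternatingMap.map_eq_zero_of_eq _ _ (i := Sum.inr i) (j := Sum.inr j)
        (by simp [hv]) (by simpa using hij) }

lemma detForm_apply (v : Fin m → Ω) :
    detForm e s v = Matrix.detRowAlternating (Sum.elim e (fun j => s (v j))) := by
  show Matrix.detRowAlternating _ = _
  congr 1

/-- det(ρ) ∧ π, as an alternating form on the free module. -/
noncomputable def coForm : (a ⊕ Fin m → B) [⋀^(a ⊕ Fin m)]→ₗ[B] (B ⊗[B] ⋀[B]^m Ω) :=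
  ((Matrix.detRowAlternating : (a → B) [⋀^a]→ₗ[B] B).compLinearMap ρ).domCoprod
    ((exteriorPower.ιMulti B m).compLinearMap π)

lemma eq_det_smul {ι : Type} [Fintype ι] [DecidableEq ι] {N : Type w} [AddCommGroup N] [Module B N]
    (F : (ι → B) [⋀^ι]→ₗ[B] N) (v : ι → ι → B) :
    F v = Matrix.detRowAlternating v • F (Pi.basisFun B ι) := by
  let G : (ι → B) [⋀^ι]→ₗ[B] N :=
    (LinearMap.toSpanSingleton B N (F (Pi.basisFun B ι))).compAlternatingMap Matrix.detRowAlternating
  suffices F = G by exact congrArg (fun H : (ι → B) [⋀^ι]→ₗ[B] N => H v) this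
  apply Module.Basis.ext_alternating (Pi.basisFun B ι)
  intro w hw
  let σ := Equiv.ofBijective w (Finite.injective_iff_bijective.1 hw)
  show F ((Pi.basisFun B ι) ∘ σ) = G ((Pi.basisFun B ι) ∘ σ)
  rw [AlternatingMap.map_perm, AlternatingMap.map_perm]
  congr 1
  have h1 : Matrix.detRowAlternating (fun i => Pi.basisFun B ι i) = (1 : B) := by
    show Matrix.det (fun i => Pi.basisFun B ι i) = 1
    have : (fun i => Pi.basisFun B ι i) = (1 : Matrix ι ι B) := by
      funext i j
      simp [Matrix.one_apply, Pi.single_apply, eq_comm]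
    rw [this]
    exact Matrix.det_one
  show F (Pi.basisFun B ι) = Matrix.detRowAlternating (fun i => Pi.basisFun B ι i) • F (Pi.basisFun B ι)
  rw [h1, one_smul]

variable {e π s ρ}

lemma coForm_sum (hπs : ∀ w, π (s w) = w) (hρe : ∀ i, ρ (e i) = Pi.single i 1)
    (hρs : ∀ w, ρ (s w) = 0) (v : Fin m → Ω) :
    coForm π ρ (Sum.elim e (fun j => s (v j))) = 1 ⊗ₜ[B] exteriorPower.ιMulti B m v := by
  classical
  show (∑ σ : Equiv.Perm.ModSumCongr a (Fin m), AlternatingMap.domCoprod.summand _ _ σ)
    (Sum.elim e (fun j => s (v j))) = _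
  rw [sum_apply]
  refine (Finset.sum_eq_single (Quotient.mk'' 1) ?_ ?_).trans ?_
  rotate_left 2
  · rw [AlternatingMap.domCoprod.summand_mk'']
    simp only [Equiv.Perm.sign_one, one_smul, MultilinearMap.domDomCongr_apply,
      MultilinearMap.domCoprod_apply, AlternatingMap.coe_multilinearMap,
      AlternatingMap.compLinearMap_apply, Equiv.Perm.coe_one, id_eq, Sum.elim_inl, Sum.elim_inr,
      hπs, hρe]
    congr 1
    show Matrix.det (fun i => Pi.single i (1 : B)) = 1
    have : (fun i => Pi.single i (1 : B)) = (1 : Matrix a a B) := by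
      funext i j
      simp [Matrix.one_apply, Pi.single_apply, eq_comm]
    rw [this]
    exact Matrix.det_one
  · intro σ _ hσ
    induction σ using Quotient.inductionOn' with | _ σ
    rw [AlternatingMap.domCoprod.summand_mk'']
    by_cases h : Set.MapsTo σ (Set.range Sum.inl) (Set.range Sum.inl)
    · refine absurd ?_ hσ
      have h' := Equiv.Perm.mem_sumCongrHom_range_of_perm_mapsTo_inl h
      apply Quotient.sound'
      rw [QuotientGroup.leftRel_apply, mul_one]
      exact inv_mem h'
    · obtain ⟨_, ⟨i, rfl⟩, hi⟩ : ∃ x ∈ Set.range (Sum.inl : a → a ⊕ Fin m),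
          σ x ∉ Set.range (Sum.inl : a → a ⊕ Fin m) := by
        simpa [Set.MapsTo] using h
      obtain ⟨j, hj⟩ : ∃ j, σ (Sum.inl i) = Sum.inr j := by
        cases hc : σ (Sum.inl i) with
        | inl x => exact absurd ⟨x, hc.symm⟩ hi
        | inr x => exact ⟨x, rfl⟩
      simp only [_root_.smul_apply, MultilinearMap.domDomCongr_apply,
        MultilinearMap.domCoprod_apply, AlternatingMap.coe_multilinearMap,
        AlternatingMap.compLinearMap_apply]
      rw [AlternatingMap.map_coord_zero _ i (by simp [hj, hρs])]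
      simp
  · simp

/-- det(e, s ·) is surjective. -/
lemma span_range_detForm_eq_top (hπe : ∀ i, π (e i) = 0)
    (hsπ : ∀ x, s (π x) = x - ∑ i, ρ x i • e i)
    (hρe : ∀ i, ρ (e i) = Pi.single i 1) :
    Ideal.span (Set.range (detForm e s)) = ⊤ := by
  classical
  by_contra hne
  obtain ⟨M, hM, hle⟩ := Ideal.exists_le_maximal _ hne
  let _ := Ideal.Quotient.field M
  let f : B →+* B ⧸ M := Ideal.Quotient.mk M
  let R : (a ⊕ Fin m → B ⧸ M) →ₗ[B ⧸ M] (a → B ⧸ M) :=
    ((LinearMap.toMatrix' ρ).map f).mulVecLin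
  have hR : ∀ x : a ⊕ Fin m → B, R (f ∘ x) = f ∘ ρ x := by
    intro x
    funext i
    rw [Function.comp_apply, ← LinearMap.toMatrix'_mulVec ρ x]
    exact (RingHom.map_mulVec f _ _ _).symm
  let E : a → (a ⊕ Fin m → B ⧸ M) := fun i => f ∘ e i
  have hRE : ∀ i, R (E i) = Pi.single i 1 := by
    intro i
    rw [show E i = f ∘ e i from rfl, hR, hρe]
    funext j
    simp [Pi.single_apply, apply_ite f]
  have hsurj : Function.Surjective R := by
    intro y
    refine ⟨∑ i, y i • E i, ?_⟩
    simp only [map_sum, map_smul, hRE]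
    funext j
    simp [Pi.single_apply]
  have hk : Module.finrank (B ⧸ M) (LinearMap.ker R) = m := by
    have := R.finrank_range_add_finrank_ker
    rw [LinearMap.range_eq_top.2 hsurj, finrank_top, Module.finrank_fintype_fun_eq_card,
      Module.finrank_fintype_fun_eq_card, Fintype.card_sum, Fintype.card_fin] at this
    omega
  let q := Module.finBasisOfFinrankEq (B ⧸ M) (LinearMap.ker R) hk
  choose x hx using fun j => (Ideal.Quotient.mk_surjective (I := M)).comp_left (q j).1
  let N : Matrix (a ⊕ Fin m) (a ⊕ Fin m) (B ⧸ M) := Sum.elim E (fun j => (q j).1)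
  have hN : IsUnit N := by
    rw [← Matrix.linearIndependent_rows_iff_isUnit]
    show LinearIndependent (B ⧸ M) (Sum.elim E (fun j => (q j).1))
    rw [Fintype.linearIndependent_iff]
    intro g hg
    simp only [Fintype.sum_sum_type, Sum.elim_inl, Sum.elim_inr] at hg
    have h1 : ∀ i, g (Sum.inl i) = 0 := by
      intro i
      have := congrArg (fun z => R z i) hg
      simp [map_sum, map_smul, hRE, Pi.single_apply] at this
      simpa [LinearMap.mem_ker.1 (q _).2] using this
    simp only [h1, zero_smul, Finset.sum_const_zero, zero_add] at hg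
    have h2 : ∑ j, g (Sum.inr j) • q j = 0 := Subtype.ext (by simpa using hg)
    rintro (i | j)
    · exact h1 i
    · exact Fintype.linearIndependent_iff.1 q.linearIndependent _ h2 j
  have hdet := Ideal.Quotient.eq_zero_iff_mem.2
    (hle (Ideal.subset_span ⟨fun j => π (x j), rfl⟩))
  rw [detForm_apply] at hdet
  have hN0 : N.det ≠ 0 := ((Matrix.isUnit_iff_isUnit_det N).1 hN).ne_zero
  apply hN0
  rw [← hdet]
  show _ = f (Matrix.det (Matrix.of (Sum.elim e (fun j => s (π (x j))))))
  rw [RingHom.map_det]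
  congr 1
  funext p c
  simp only [RingHom.mapMatrix_apply, Matrix.map_apply, Matrix.of_apply]
  rcases p with i | j
  · rfl
  · simp only [N, Sum.elim_inr, hsπ, Pi.sub_apply, Finset.sum_apply, Pi.smul_apply, smul_eq_mul,
      map_sub, map_sum, map_mul]
    have hz : ∀ i, f (ρ (x j) i) = 0 := by
      intro i
      have := congrFun (hR (x j)) i
      rw [show (f : B → B ⧸ M) ∘ x j = (q j).1 from hx j, LinearMap.mem_ker.1 (q j).2] at this
      exact this.symm
    simp only [hz, zero_mul, Finset.sum_const_zero, sub_zero]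
    exact (congrFun (hx j) c).symm

/-- The top exterior power of a complement of a split free submodule of a free module is free. -/
theorem nonempty_equiv (hπe : ∀ i, π (e i) = 0) (hπs : ∀ w, π (s w) = w)
    (hsπ : ∀ x, s (π x) = x - ∑ i, ρ x i • e i) (hρe : ∀ i, ρ (e i) = Pi.single i 1) :
    Nonempty ((⋀[B]^m Ω) ≃ₗ[B] B) := by
  classical
  have hρs : ∀ w, ρ (s w) = 0 := by
    intro w
    obtain ⟨x, rfl⟩ : ∃ x, π x = w := ⟨s w, hπs w⟩
    funext j
    simp [hsπ, map_sum, map_smul, hρe, Pi.single_apply]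
  let φ : (⋀[B]^m Ω) →ₗ[B] B := exteriorPower.alternatingMapLinearEquiv (detForm e s)
  let θ : ⋀[B]^m Ω := TensorProduct.lid B _ (coForm π ρ (Pi.basisFun B _))
  have key : ∀ z, φ z • θ = z := by
    suffices (LinearMap.toSpanSingleton B _ θ).comp φ = LinearMap.id from
      fun z => LinearMap.congr_fun this z
    apply exteriorPower.linearMap_ext
    ext v
    have h := congrArg (TensorProduct.lid B _) (coForm_sum hπs hρe hρs v)
    rw [eq_det_smul, map_smul, TensorProduct.lid_tmul, one_smul] at h
    refine congrArg Subtype.val (?_ : φ (exteriorPower.ιMulti B m v) • θ = exteriorPower.ιMulti B m v)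
    rw [show φ (exteriorPower.ιMulti B m v) = detForm e s v from
      exteriorPower.alternatingMapLinearEquiv_apply_ιMulti _ _, detForm_apply]
    exact h
  refine ⟨LinearEquiv.ofBijective φ ⟨fun z z' h => ?_, ?_⟩⟩
  · rw [← key z, h, key]
  · rw [← LinearMap.range_eq_top, eq_top_iff]
    intro b _
    have := span_range_detForm_eq_top hπe hsπ hρe
    have hb : b ∈ Ideal.span (Set.range (detForm e s)) := this ▸ Submodule.mem_top
    refine Submodule.span_le.2 ?_ hb
    rintro _ ⟨v, rfl⟩
    exact ⟨exteriorPower.ιMulti B m v, by simp [φ]⟩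

end

/-- A module with a basis has its top exterior power free of rank one. -/
lemma top_free {B : Type u} [CommRing B] {M : Type v} [AddCommGroup M] [Module B M]
    {r : ℕ} (b : Module.Basis (Fin r) B M) : Nonempty ((⋀[B]^r M) ≃ₗ[B] B) := by
  classical
  let bb := b.exteriorPower (n := r)
  have hc : Fintype.card (Set.powersetCard (Fin r) r) = 1 := by
    rw [← Nat.card_eq_fintype_card, Set.powersetCard.card, Nat.card_eq_fintype_card,
      Fintype.card_fin, Nat.choose_self]
  let w := Fintype.equivOfCardEq (hc.trans (Fintype.card_unit).symm)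
  exact ⟨(bb.reindex w).equivFun.trans (LinearEquiv.funUnique Unit B B)⟩

end Groth.Agent.DetSplit7
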